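import Groth.Agent.QCohBase.HighDegree
import Groth.Agent.QCohBase.Push
import Groth.Agent.RDerLES.LES
import Mathlib.AlgebraicGeometry.Morphisms.QuasiSeparated

/-!
# Uniform vanishing of higher direct images
-/

noncomputable section

universe u

open CategoryTheory Limits TopologicalSpace Opposite AlgebraicGeometry

namespace Groth.Agent.RPushBound

open QCohBase

/-- Induction on the quasi-compact opens inside a quasi-separated open. -/
theorem qcqs_induction_on {X : Scheme.{u}} {W₀ : X.Opens} (hW₀ : IsQuasiSeparated (W₀ : Set X))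
    (P : X.Opens → Prop) (h₁ : ∀ U : X.Opens, IsAffineOpen U → U ≤ W₀ → P U)
    (h₂ : ∀ U V : X.Opens, P U → P V → P (U ⊓ V) → P (U ⊔ V))
    (U : X.Opens) (hU : IsCompact (U : Set X)) (hle : U ≤ W₀) : P U := by
  suffices IsCompact (U : Set X) ∧ (U ≤ W₀ → P U) from this.2 hle
  refine compact_open_induction_on (P := fun U => IsCompact (U : Set X) ∧ (U ≤ W₀ → P U)) U hU
    ⟨by simp, fun h => h₁ ⊥ (isAffineOpen_bot X) h⟩ ?_
  rintro S hS V ⟨-, hPS⟩
  refine ⟨hS.union V.2.isCompact, fun hle => ?_⟩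
  have hS' : S ≤ W₀ := le_sup_left.trans hle
  have hV' : V.1 ≤ W₀ := le_sup_right.trans hle
  have hc : IsCompact ((S ⊓ V.1 : X.Opens) : Set X) :=
    hW₀ _ _ hS' S.2 hS hV' V.1.2 V.2.isCompact
  refine h₂ _ _ (hPS hS') (h₁ _ V.2 hV') ?_
  exact induction_in_affine (P := fun U => U ≤ W₀ → P U) h₁
    (fun A B _ _ hA hB hAB h => h₂ A B (hA (le_sup_left.trans h)) (hB (le_sup_right.trans h))
      (hAB ((inf_le_left.trans le_sup_left).trans h))) V.2 hc inf_le_right
    (inf_le_left.trans hS')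

variable {X S : Scheme.{u}}

/-- A bound uniform in the basic opens of an affine open of the base. -/
lemma exists_surjAt_preimage_bound (f : X ⟶ S) [QuasiCompact f] [QuasiSeparated f] {A : S.Opens}
    (hA : IsAffineOpen A) :
    ∃ t, ∀ n, t ≤ n → ∀ F : AbSheaf X.toTopCat, (affineSystem X).Acyclic F → ∀ a : Γ(S, A),
      CovSystem.SurjAt (CovSystem.cosyzygy F n) (f ⁻¹ᵁ S.basicOpen a) := by
  haveI : IsAffine A := hA
  haveI : QuasiSeparatedSpace ↥((f ⁻¹ᵁ A : X.Opens) : Scheme.{u}) :=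
    quasiSeparatedSpace_of_quasiSeparated (f ∣_ A)
  have hqs : IsQuasiSeparated ((f ⁻¹ᵁ A : X.Opens) : Set X) :=
    (isQuasiSeparated_iff_quasiSeparatedSpace _ (f ⁻¹ᵁ A).2).2 this
  have hc : IsCompact ((f ⁻¹ᵁ A : X.Opens) : Set X) :=
    QuasiCompact.isCompact_preimage _ A.2 hA.isCompact
  obtain ⟨t, ht⟩ := qcqs_induction_on hqs (fun U => ∃ t, ∀ n, t ≤ n → ∀ F : AbSheaf X.toTopCat,
      (affineSystem X).Acyclic F → ∀ a : Γ(S, A),
        CovSystem.SurjAt (CovSystem.cosyzygy F n) (U ⊓ f ⁻¹ᵁ S.basicOpen a))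
    (fun U hU hle => ⟨0, fun n _ F hF a => by
      refine CovSystem.sections_surjective (CovSystem.injSeq_shortExact _)
        (CovSystem.acyclic_cosyzygy hF n) ?_
      have : U ⊓ f ⁻¹ᵁ S.basicOpen a = X.basicOpen (X.presheaf.map (homOfLE hle).op (f.app A a)) := by
        rw [Scheme.basicOpen_res, Scheme.preimage_basicOpen]
      rw [this]
      exact hU.basicOpen _⟩)
    (fun U V ⟨p, hp⟩ ⟨q, hq⟩ ⟨r, hr⟩ => ⟨max (max p q) r + 1, fun n hn F hF a => by
      obtain ⟨m, rfl⟩ : ∃ m, n = m + 1 := ⟨n - 1, by omega⟩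
      have h := hr m (by omega) F hF a
      rw [inf_inf_distrib_right] at h
      rw [inf_sup_right]
      exact CovSystem.surjAt_sup h (hp (m + 1) (by omega) F hF a) (hq (m + 1) (by omega) F hF a)⟩)
    _ hc le_rfl
  refine ⟨t, fun n hn F hF a => ?_⟩
  have h := ht n hn F hF a
  rwa [inf_eq_right.2 (f.preimage_mono (S.basicOpen_le a))] at h

/-- Vanishing of higher direct images from surjectivity of sections of a cosyzygy. -/
lemma isZero_rightDerived_of_epi {X Y : TopCat.{u}} (g : X ⟶ Y) (F : AbSheaf X) (n : ℕ)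
    (h : Epi ((pushSh g).map (CovSystem.injSeq (CovSystem.cosyzygy F n)).g)) :
    IsZero (((pushSh g).rightDerived (n + 1)).obj F) := by
  suffices ∀ k m, k + m = n →
      IsZero (((pushSh g).rightDerived (k + 1)).obj (CovSystem.cosyzygy F m)) from
    this n 0 (add_zero n)
  intro k
  have Δ := RDerLES.derivedLES (pushSh g)
  induction k with
  | zero =>
    intro m hm
    obtain rfl : m = n := by omega
    let T := CovSystem.injSeq (CovSystem.cosyzygy F m)
    have hT := CovSystem.injSeq_shortExact (CovSystem.cosyzygy F m)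
    haveI : Epi (((pushSh g).rightDerived 0).map T.g) := by
      have : ((pushSh g).rightDerived 0).map T.g =
          (pushSh g).rightDerivedZeroIsoSelf.hom.app T.X₂ ≫ (pushSh g).map T.g ≫
            (pushSh g).rightDerivedZeroIsoSelf.inv.app T.X₃ := by
        rw [← NatTrans.naturality_assoc, Iso.hom_inv_id_app, Category.comp_id]
      rw [this]
      haveI : Epi ((pushSh g).map T.g) := h
      infer_instance
    have h0 : Δ.δ T hT 0 1 rfl = 0 := by
      rw [← cancel_epi (((pushSh g).rightDerived 0).map T.g), comp_zero]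
      exact Δ.comp_δ T hT 0 1 rfl
    exact (Δ.exact₁ T hT 0 1 rfl).isZero_of_both_zeros h0
      ((Functor.isZero_rightDerived_obj_injective_succ _ 0 T.X₂).eq_of_tgt _ _)
  | succ k ih =>
    intro m hm
    let T := CovSystem.injSeq (CovSystem.cosyzygy F m)
    have hT := CovSystem.injSeq_shortExact (CovSystem.cosyzygy F m)
    exact (Δ.exact₁ T hT (k + 1) (k + 2) rfl).isZero_of_both_zeros
      ((ih (m + 1) (by omega)).eq_of_src _ _)
      ((Functor.isZero_rightDerived_obj_injective_succ _ (k + 1) T.X₂).eq_of_tgt _ _)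

/-- Uniform vanishing of higher direct images along qcqs morphisms to quasi-compact schemes. -/
theorem exists_bound_isZero_RpushAb (f : X ⟶ S) [QuasiCompact f] [QuasiSeparated f]
    [CompactSpace S] :
    ∃ n : ℕ, ∀ (M : X.Modules), Coh.IsQCoh M → ∀ p : ℕ, n ≤ p →
      IsZero ((Coh.RpushAb f p).obj (Coh.toAb M)) := by
  classical
  let 𝒰 := S.affineCover.finiteSubcover
  choose t ht using fun i => exists_surjAt_preimage_bound f
    (isAffineOpen_opensRange (𝒰.f i))
  refine ⟨Finset.univ.sup t + 1, fun M hM p hp => ?_⟩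
  obtain ⟨n, rfl⟩ : ∃ n, p = n + 1 := ⟨p - 1, by omega⟩
  haveI : Coh.IsQCoh M := hM
  refine isZero_rightDerived_of_epi f.base (Coh.toAb M) n ?_
  refine isLocallySurjective_of_basis _
    {V | ∃ i, ∃ a : Γ(S, (𝒰.f i).opensRange), V = S.basicOpen a} ?_ ?_
  · refine Opens.isBasis_iff_nbhd.2 fun {U x} hx => ?_
    have hxi : x ∈ (𝒰.f (𝒰.idx x)).opensRange := 𝒰.covers x
    obtain ⟨a, ha, hxa⟩ := (isAffineOpen_opensRange (𝒰.f (𝒰.idx x))).exists_basicOpen_le
      ⟨x, hx⟩ hxi
    exact ⟨_, ⟨_, a, rfl⟩, hxa, ha⟩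
  · rintro _ ⟨i, a, rfl⟩
    exact ht i n (by have := Finset.le_sup (f := t) (Finset.mem_univ i); omega) _
      (acyclic_of_isQCoh M) a

end Groth.Agent.RPushBound
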